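import Mathlib
import Cfsg.Agent.Lib.Helper31.OTSM.Defs

/-!
# OTSM (S5987), package [NUMEV1M]

Arithmetic, `i` even, `i ≤ m`: the closed form of `AllEvM`.
-/

set_option autoImplicit false

namespace Cfsg.Agent.Lib.Helper97.OTSM

open Cfsg.Agent.Lib.Helper31.OTSM

theorem ev1_le (h n r j : ℕ) (hr : r < h) : 2 * h * j ≤ 2 * (h * n + r) ↔ j ≤ n := by
  constructor
  · intro hx
    by_contra hcon
    obtain ⟨c, hc⟩ := Nat.exists_eq_add_of_lt (not_le.mp hcon)
    subst hc
    have p : 2 * h * (n + c + 1) = 2 * (h * n) + 2 * (h * c) + 2 * h := by ring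
    omega
  · intro hx
    obtain ⟨c, rfl⟩ := Nat.exists_eq_add_of_le hx
    have p : 2 * h * j = 2 * (h * j) := by ring
    have p' : h * (j + c) = h * j + h * c := by ring
    omega

theorem ev1_eq (h n r j : ℕ) (hr : r < h) :
    2 * h * j = 2 * (h * n + r) ↔ (j = n ∧ r = 0) := by
  constructor
  · intro hx
    have hj : j ≤ n := (ev1_le h n r j hr).mp hx.le
    obtain ⟨c, rfl⟩ := Nat.exists_eq_add_of_le hj
    have p : 2 * h * j = 2 * (h * j) := by ring
    have p' : h * (j + c) = h * j + h * c := by ring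
    rcases Nat.eq_zero_or_pos c with rfl | hc
    · simp only [mul_zero, add_zero] at hx p' ⊢
      exact ⟨trivial, by omega⟩
    · have : h ≤ h * c := Nat.le_mul_of_pos_right h hc
      omega
  · rintro ⟨rfl, rfl⟩; ring

theorem ev1_s (h a b s : ℕ) (hb : b < 2 * h) : 2 * h * s ≤ 2 * h * a + b ↔ s ≤ a := by
  constructor
  · intro hx
    by_contra hcon
    obtain ⟨c, hc⟩ := Nat.exists_eq_add_of_lt (not_le.mp hcon)
    subst hc
    have p : 2 * h * (a + c + 1) = 2 * h * a + 2 * (h * c) + 2 * h := by ring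
    omega
  · intro hx
    have := Nat.mul_le_mul_left (2 * h) hx
    omega

theorem ev1_cond (h a b n r j s ε : ℕ) (hh : 1 ≤ h) (hb : b < 2 * h) (hr : r < h)
    (hs : s ≤ a) (hj : j ≤ n) (hε : ε ≤ 2) :
    (2 * (2 * h * a + b - 2 * h * s) + ε ≤ 2 * (h * n + r) - 2 * h * j) ↔
      (2 * (a - s) + j + 2 ≤ n ∨ (2 * (a - s) + j + 1 = n ∧ 2 * b + ε ≤ 2 * h + 2 * r) ∨
        (2 * (a - s) + j = n ∧ 2 * b + ε ≤ 2 * r)) := by
  obtain ⟨u, rfl⟩ := Nat.exists_eq_add_of_le hs
  obtain ⟨v, rfl⟩ := Nat.exists_eq_add_of_le hj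
  have p1 : 2 * h * (s + u) = 2 * (h * s) + 2 * (h * u) := by ring
  have p2 : 2 * h * s = 2 * (h * s) := by ring
  have p3 : 2 * h * j = 2 * (h * j) := by ring
  have p4 : h * (j + v) = h * j + h * v := by ring
  rw [p1, p2, p3, p4]
  rcases lt_trichotomy v (2 * u) with hlt | heq | hgt
  · obtain ⟨c, hc⟩ := Nat.exists_eq_add_of_lt hlt
    have p6 : 2 * (h * u) = h * v + h * c + h := by
      calc 2 * (h * u) = h * (2 * u) := by ring
        _ = h * (v + c + 1) := by rw [hc]
        _ = h * v + h * c + h := by ring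
    constructor <;> intro hx <;> omega
  · subst heq
    have p6 : h * (2 * u) = 2 * (h * u) := by ring
    rw [p6]
    constructor <;> intro hx <;> omega
  · obtain ⟨c, hc⟩ := Nat.exists_eq_add_of_lt hgt
    subst hc
    have p6 : h * (2 * u + c + 1) = 2 * (h * u) + h * c + h := by ring
    rw [p6]
    rcases Nat.eq_zero_or_pos c with rfl | hc
    · simp only [mul_zero, add_zero]
      constructor <;> intro hx <;> omega
    · have p7 : h ≤ h * c := Nat.le_mul_of_pos_right h hc
      constructor <;> intro hx <;> omega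

theorem ev1_core (h a b n r t : ℕ) (hh : 1 ≤ h) (ha : 1 ≤ a) (hb : b < 2 * h) (hr : r < h)
    (hmd : 2 * h * a + b + 1 ≤ h * n + r) (ht : 1 ≤ t) :
    AllEvM (2 * h) (2 * h * a + b) (h * n + r) t ↔
      (t + 2 * a ≤ n ∧ ((b ≤ h ∧ r = 0 ∧ Even n ∧ t + 2 * a < n) ∨ (b ≤ r ∧ Odd n) ∨
        (b < r ∧ Even n))) := by
  have h2a : 2 * a ≤ n := by
    by_contra hcon
    obtain ⟨c, hc⟩ := Nat.exists_eq_add_of_lt (not_le.mp hcon)
    have p : 2 * h * a = h * n + h * c + h := by
      calc 2 * h * a = h * (2 * a) := by ring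
        _ = h * (n + c + 1) := by rw [hc]
        _ = h * n + h * c + h := by ring
    omega
  have hone : ∀ j, j ≤ n →
      (CondEvM (2 * h) (2 * h * a + b) (h * n + r) j ((j + 1 - t) / 2) ↔
        ∃ s, s ≤ (j + 1 - t) / 2 ∧ s ≤ a ∧
          (2 * (a - s) + j + 2 ≤ n ∨
            (2 * (a - s) + j + 1 = n ∧
              2 * b + (if Even j then 2 else 0) ≤ 2 * h + 2 * r) ∨
            (2 * (a - s) + j = n ∧ 2 * b + (if Even j then 2 else 0) ≤ 2 * r))) := by
    intro j hjn
    unfold CondEvM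
    constructor
    · rintro ⟨s, hs, hs1, hs2⟩
      have hsa := (ev1_s h a b s hb).mp hs1
      exact ⟨s, hs, hsa,
        (ev1_cond h a b n r j s _ hh hb hr hsa hjn (by split_ifs <;> omega)).mp hs2⟩
    · rintro ⟨s, hs, hsa, hs2⟩
      exact ⟨s, hs, (ev1_s h a b s hb).mpr hsa,
        (ev1_cond h a b n r j s _ hh hb hr hsa hjn (by split_ifs <;> omega)).mpr hs2⟩
  have hall : AllEvM (2 * h) (2 * h * a + b) (h * n + r) t ↔
      ∀ j, 1 ≤ j → j ≤ n → (j = n → r = 0 → Odd j) →
        ∃ s, s ≤ (j + 1 - t) / 2 ∧ s ≤ a ∧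
          (2 * (a - s) + j + 2 ≤ n ∨
            (2 * (a - s) + j + 1 = n ∧
              2 * b + (if Even j then 2 else 0) ≤ 2 * h + 2 * r) ∨
            (2 * (a - s) + j = n ∧ 2 * b + (if Even j then 2 else 0) ≤ 2 * r)) := by
    unfold AllEvM
    constructor
    · intro H j hj1 hjn hjo
      exact (hone j hjn).mp (H j hj1 ((ev1_le h n r j hr).mpr hjn) (fun he => by
        obtain ⟨e1, e2⟩ := (ev1_eq h n r j hr).mp he
        exact hjo e1 e2))
    · intro H j hj1 hjn hjo
      have hjn' := (ev1_le h n r j hr).mp hjn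
      have hjo' : j = n → r = 0 → Odd j := fun e1 e2 =>
        hjo ((ev1_eq h n r j hr).mpr ⟨e1, e2⟩)
      exact (hone j hjn').mpr (H j hj1 hjn' hjo')
  rw [hall]
  constructor
  · intro H
    have hT : t + 2 * a ≤ n := by
      by_contra hcon
      rcases Nat.lt_or_ge t n with htn | htn
      · obtain ⟨s, hs, hsa, hs2⟩ := H t ht htn.le (fun e => by omega)
        split_ifs at hs2 <;> omega
      · obtain ⟨s, hs, hsa, hs2⟩ := H (n - 1) (by omega) (by omega) (fun e => by omega)
        split_ifs at hs2 <;> omega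
    refine ⟨hT, ?_⟩
    rcases Nat.even_or_odd n with hn | hn
    · have hn' : n % 2 = 0 := Nat.even_iff.mp hn
      rcases Nat.eq_zero_or_pos r with hr0 | hr0
      · left
        obtain ⟨s, hs, hsa, hs2⟩ := H (n - 1) (by omega) (by omega) (fun e => by omega)
        have hodd : ¬ Even (n - 1) := by rw [Nat.even_iff]; omega
        simp only [hodd, if_false] at hs2
        refine ⟨by omega, hr0, hn, ?_⟩
        by_contra hcon
        have hTe : t + 2 * a = n := by omega
        obtain ⟨s', hs', hsa', hs2'⟩ := H (n - 2) (by omega) (by omega) (fun e => by omega)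
        have hev : Even (n - 2) := by rw [Nat.even_iff]; omega
        simp only [hev, if_true] at hs2'
        omega
      · right; right
        obtain ⟨s, hs, hsa, hs2⟩ := H n (by omega) le_rfl (fun _ e => by omega)
        simp only [hn, if_true] at hs2
        exact ⟨by omega, hn⟩
    · right; left
      have hn' : n % 2 = 1 := Nat.odd_iff.mp hn
      obtain ⟨s, hs, hsa, hs2⟩ := H n (by omega) le_rfl (fun _ _ => hn)
      have hodd : ¬ Even n := by rw [Nat.not_even_iff_odd]; exact hn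
      simp only [hodd, if_false] at hs2
      exact ⟨by omega, hn⟩
  · rintro ⟨hT, hABC⟩ j hj1 hjn hjo
    have hjo' : j = n → r = 0 → j % 2 = 1 := fun e1 e2 => Nat.odd_iff.mp (hjo e1 e2)
    by_cases hS : (j + 1 - t) / 2 ≤ a
    · refine ⟨(j + 1 - t) / 2, le_rfl, hS, ?_⟩
      by_cases hev : Even j
      · simp only [hev, if_true]
        have hj2 : j % 2 = 0 := Nat.even_iff.mp hev
        rcases hABC with ⟨x1, x2, x3, x4⟩ | ⟨x1, x2⟩ | ⟨x1, x2⟩
        · have := Nat.even_iff.mp x3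
          rcases eq_or_ne j n with e | e
          · have := hjo' e x2; omega
          · omega
        · have := Nat.odd_iff.mp x2; omega
        · have := Nat.even_iff.mp x2; omega
      · simp only [hev, if_false]
        have hj2 : j % 2 = 1 := Nat.odd_iff.mp (Nat.not_even_iff_odd.mp hev)
        rcases hABC with ⟨x1, x2, x3, x4⟩ | ⟨x1, x2⟩ | ⟨x1, x2⟩
        · have := Nat.even_iff.mp x3; omega
        · have := Nat.odd_iff.mp x2; omega
        · have := Nat.even_iff.mp x2; omega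
    · refine ⟨a, by omega, le_rfl, ?_⟩
      by_cases hev : Even j
      · simp only [hev, if_true]
        have hj2 : j % 2 = 0 := Nat.even_iff.mp hev
        rcases hABC with ⟨x1, x2, x3, x4⟩ | ⟨x1, x2⟩ | ⟨x1, x2⟩
        · have := Nat.even_iff.mp x3
          rcases eq_or_ne j n with e | e
          · have := hjo' e x2; omega
          · omega
        · have := Nat.odd_iff.mp x2; omega
        · have := Nat.even_iff.mp x2; omega
      · simp only [hev, if_false]
        have hj2 : j % 2 = 1 := Nat.odd_iff.mp (Nat.not_even_iff_odd.mp hev)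
        rcases hABC with ⟨x1, x2, x3, x4⟩ | ⟨x1, x2⟩ | ⟨x1, x2⟩
        · have := Nat.even_iff.mp x3; omega
        · have := Nat.odd_iff.mp x2; omega
        · have := Nat.even_iff.mp x2; omega

theorem pkgNumEv1M : PkgNumEv1M := by
  intro i m d t hi hi2 him hmd ht
  obtain ⟨h, rfl⟩ : ∃ h, i = 2 * h := by
    obtain ⟨c, hc⟩ := hi; exact ⟨c, by omega⟩
  have hh : 1 ≤ h := by omega
  have e1 : (2 * d) / (2 * h) = d / h := Nat.mul_div_mul_left d h (by norm_num)
  have e2 : (2 * d) % (2 * h) = 2 * (d % h) := Nat.mul_mod_mul_left 2 d h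
  rw [e1, e2]
  obtain ⟨a, b, hb', rfl⟩ : ∃ a b, b < 2 * h ∧ m = 2 * h * a + b :=
    ⟨m / (2 * h), m % (2 * h), Nat.mod_lt _ (by omega), (Nat.div_add_mod m (2 * h)).symm⟩
  obtain ⟨n, r, hr', rfl⟩ : ∃ n r, r < h ∧ d = h * n + r :=
    ⟨d / h, d % h, Nat.mod_lt _ (by omega), (Nat.div_add_mod d h).symm⟩
  have e3 : (2 * h * a + b) / (2 * h) = a := by
    rw [Nat.mul_add_div (by omega), Nat.div_eq_of_lt hb', add_zero]
  have e4 : (2 * h * a + b) % (2 * h) = b := by
    rw [Nat.mul_add_mod, Nat.mod_eq_of_lt hb']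
  have e5 : (h * n + r) / h = n := by
    rw [Nat.mul_add_div (by omega), Nat.div_eq_of_lt hr', add_zero]
  have e6 : (h * n + r) % h = r := by
    rw [Nat.mul_add_mod, Nat.mod_eq_of_lt hr']
  rw [e3, e4, e5, e6]
  have ha' : 1 ≤ a := by
    by_contra hcon
    have h0 : a = 0 := by omega
    subst h0
    simp only [mul_zero, zero_add] at him
    omega
  rw [ev1_core h a b n r t hh ha' hb' hr' hmd ht]
  constructor
  · rintro ⟨h1, h2⟩
    refine ⟨h1, ?_⟩
    rcases h2 with ⟨x1, x2, x3, x4⟩ | ⟨x1, x2⟩ | ⟨x1, x2⟩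
    · exact Or.inl ⟨by omega, by omega, x3, x4⟩
    · exact Or.inr (Or.inl ⟨by omega, x2⟩)
    · exact Or.inr (Or.inr ⟨by omega, x2⟩)
  · rintro ⟨h1, h2⟩
    refine ⟨h1, ?_⟩
    rcases h2 with ⟨x1, x2, x3, x4⟩ | ⟨x1, x2⟩ | ⟨x1, x2⟩
    · exact Or.inl ⟨by omega, by omega, x3, x4⟩
    · exact Or.inr (Or.inl ⟨by omega, x2⟩)
    · exact Or.inr (Or.inr ⟨by omega, x2⟩)

end Cfsg.Agent.Lib.Helper97.OTSM
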